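import Groth.Agent.H18Et.Coh.TorsionRpush
import Groth.Agent.H16Derived.AcyclicLES
import Groth.Agent.H18Et.FreeSheaf
import Groth.Prelude.Def_EtLim

/-!
# Torsion in higher direct images and in the cohomology of direct images
-/

set_option autoImplicit false
set_option linter.style.haveILetI false
set_option linter.unusedSectionVars false
set_option backward.isDefEq.respectTransparency false
set_option backward.isDefEq.respectTransparency.types false

universe u

open CategoryTheory CategoryTheory.Limits AlgebraicGeometry Opposite Abelian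

namespace Groth.Agent.H05EGA4.EtTors

open Groth.Agent.H18Et
open scoped Groth.Agent.H18Et

variable {X Y : Scheme.{u}} (f : X ⟶ Y)

/-- Local annihilators of sections of higher direct images come from annihilators of `Ext` groups. -/
theorem exists_nsmul_Rpush [EtCoh.BCCont f] (F : EtCoh.Ab X) (p : ℕ) (M : ℕ → Prop)
    (h : ∀ (P : Y.Etale) [IsAffine P.left] (x : Ext ((FreeSheaf.free X).obj ((EtCoh.bc f).obj P)) F (p + 1)),
      ∃ m, M m ∧ m • x = 0)
    (U : Y.Etale) (s : EtCoh.sect ((EtCoh.Rpush f (p + 1)).obj F) U) (x : U.left) :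
    ∃ (V : Y.Etale) (g : V ⟶ U) (v : V.left) (m : ℕ), g.left.base v = x ∧ M m ∧
      m • ((EtCoh.Rpush f (p + 1)).obj F).obj.map g.op s = 0 := by
  let R := injectiveResolution F
  let K := ((EtCoh.push f).mapHomologicalComplex _).obj R.cocomplex
  let e := R.isoRightDerivedObj (EtCoh.push f) (p + 1)
  suffices key : ∀ s : EtCoh.sect (K.homology (p + 1)) U, ∃ (V : Y.Etale) (g : V ⟶ U) (v : V.left) (m : ℕ),
      g.left.base v = x ∧ M m ∧ m • (K.homology (p + 1)).obj.map g.op s = 0 by
    obtain ⟨V, g, v, m, hv, hm, hm0⟩ := key (e.hom.hom.app (op U) s)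
    refine ⟨V, g, v, m, hv, hm, ?_⟩
    have hinj : Function.Injective (e.hom.hom.app (op V)) :=
      Function.LeftInverse.injective (g := e.inv.hom.app (op V)) fun z => by
        rw [← ConcreteCategory.comp_apply, ← NatTrans.comp_app, ← ObjectProperty.FullSubcategory.comp_hom,
          e.hom_inv_id]
        rfl
    refine hinj (((map_nsmul (e.hom.hom.app (op V)).hom m _).trans ?_).trans (map_zero _).symm)
    exact (congrArg (m • ·) (NatTrans.naturality_apply e.hom.hom g.op s)).trans hm0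
  intro s
  haveI : CategoryTheory.Sheaf.IsLocallySurjective (K.homologyπ (p + 1)) :=
    (Sheaf.isLocallySurjective_iff_epi' _ (K.homologyπ (p + 1))).2 inferInstance
  obtain ⟨V, g, v, ⟨c, hc⟩, hv⟩ := Subterminal.exists_mem_of_cover
    (Presheaf.imageSieve_mem _ (K.homologyπ (p + 1)).hom s) x
  obtain ⟨z, hz⟩ := exists_fiber_over v (geomPt (V.hom.base v)) (geomPt_base _)
  obtain ⟨P, hP, i, z', hz'⟩ := Cons.exists_affine_nbhd z
  haveI := hP
  let W : X.Etale := (EtCoh.bc f).obj P
  let c' : EtCoh.sect (K.cycles (p + 1)) P := (K.cycles (p + 1)).obj.map i.op c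
  have hc' : (K.homologyπ (p + 1)).hom.app (op P) c' = (K.homology (p + 1)).obj.map (i ≫ g).op s := by
    refine (NatTrans.naturality_apply (K.homologyπ (p + 1)).hom i.op c).trans ((congrArg _ hc).trans ?_)
    rw [op_comp, Functor.map_comp_apply]
  let G0 : EtCoh.Ab Y ⥤ AddCommGrpCat.{u + 1} :=
    sheafToPresheaf Y.smallEtaleTopology AddCommGrpCat.{u + 1} ⋙ (evaluation _ _).obj (op P)
  have hinj : Function.Injective (G0.map (K.iCycles (p + 1))) :=
    (AddCommGrpCat.mono_iff_injective _).1 inferInstance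
  let xs : EtCoh.sect (R.cocomplex.X (p + 1)) W := G0.map (K.iCycles (p + 1)) c'
  suffices ∃ m : ℕ, M m ∧ G0.map (K.homologyπ (p + 1)) (m • c') = 0 by
    obtain ⟨m, hm, hm0⟩ := this
    refine ⟨P, i ≫ g, ptOf z', m, ?_, hm, ?_⟩
    · refine (congrArg g.left.base ?_).trans hv
      exact (ptOf_map i z').trans ((congrArg ptOf hz').trans hz)
    · rw [← hc']
      exact (map_nsmul _ m c').symm.trans hm0
  let φ := (FreeSheaf.homEquiv W (R.cocomplex.X (p + 1))).symm xs
  have hφ : φ ≫ R.cocomplex.d (p + 1) (p + 2) = 0 := by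
    apply (FreeSheaf.homEquiv W _).injective
    rw [FreeSheaf.homEquiv_comp, Equiv.apply_symm_apply]
    refine (ConcreteCategory.congr_hom (congrArg (fun φ : K.cycles (p + 1) ⟶ K.X (p + 2) => φ.hom.app (op P))
      (K.iCycles_d (p + 1) (p + 2))) c').trans ?_
    refine Eq.trans ?_ (congrArg (FreeSheaf.homEquiv W (R.cocomplex.X (p + 2))) (zero_comp
      (X := (FreeSheaf.free X).obj W) (f := (0 : R.cocomplex.X (p + 2) ⟶ R.cocomplex.X (p + 2)))))
    rw [FreeSheaf.homEquiv_comp]
    rfl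
  obtain ⟨m, hm, hm0⟩ := h P (R.extMk φ (p + 2) rfl hφ)
  rw [Coh.nsmul_extMk, R.extMk_eq_zero_iff (m • φ) (p + 2) rfl _ p rfl] at hm0
  obtain ⟨b, hb⟩ := hm0
  refine ⟨m, hm, ?_⟩
  have key : ∀ k : ℕ, FreeSheaf.homEquiv W _ (k • φ) = k • xs := by
    intro k
    induction k with
    | zero =>
      rw [zero_nsmul, zero_nsmul, ← zero_comp (f := (0 : R.cocomplex.X (p + 1) ⟶ R.cocomplex.X (p + 1))),
        FreeSheaf.homEquiv_comp]
      rfl
    | succ k ih =>
      have e : k • φ + φ = φ ≫ ((k : ℕ) • 𝟙 _ + 𝟙 _) := by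
        rw [Preadditive.comp_add, Preadditive.comp_nsmul, Category.comp_id]
      rw [succ_nsmul, succ_nsmul, e, FreeSheaf.homEquiv_comp, Equiv.apply_symm_apply, ← ih]
      have e2 : k • φ = φ ≫ ((k : ℕ) • 𝟙 _) := by rw [Preadditive.comp_nsmul, Category.comp_id]
      rw [e2, FreeSheaf.homEquiv_comp, Equiv.apply_symm_apply]
      rfl
  let t : EtCoh.sect (R.cocomplex.X p) W := FreeSheaf.homEquiv W _ b
  have ht : (R.cocomplex.d p (p + 1)).hom.app (op W) t = m • xs := by
    rw [← key, ← hb, FreeSheaf.homEquiv_comp]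
  have hcy : G0.map (K.toCycles p (p + 1)) t = m • c' := hinj (by
    refine (ConcreteCategory.congr_hom ((G0.map_comp _ _).symm.trans
      (congrArg G0.map (K.toCycles_i p (p + 1)))) t).trans (ht.trans ?_)
    exact (map_nsmul (G0.map (K.iCycles (p + 1))).hom m c').symm)
  rw [← hcy]
  have h4 := congrArg G0.map (K.toCycles_comp_homologyπ p (p + 1))
  rw [Functor.map_comp, Functor.map_zero] at h4
  exact ConcreteCategory.congr_hom h4 t

/-- Higher direct images with torsion `Ext` groups are torsion. -/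
theorem isTorsion_Rpush_succ [EtCoh.BCCont f] (F : EtCoh.Ab X) (p : ℕ)
    (h : ∀ (P : Y.Etale) [IsAffine P.left] (x : Ext ((FreeSheaf.free X).obj ((EtCoh.bc f).obj P)) F (p + 1)),
      ∃ m, 0 < m ∧ m • x = 0) : EtCoh.IsTorsion ((EtCoh.Rpush f (p + 1)).obj F) := fun U s x => by
  obtain ⟨V, g, v, m, hv, hm, hm0⟩ := exists_nsmul_Rpush f F p (0 < ·) h U s x
  exact ⟨V, g, ⟨v, hv⟩, isOfFinAddOrder_iff_nsmul_eq_zero.2 ⟨m, hm, hm0⟩⟩

/-- Higher direct images with trivial `Ext` groups vanish. -/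
theorem isZero_Rpush_succ [EtCoh.BCCont f] (F : EtCoh.Ab X) (p : ℕ)
    (h : ∀ (P : Y.Etale) [IsAffine P.left] (x : Ext ((FreeSheaf.free X).obj ((EtCoh.bc f).obj P)) F (p + 1)),
      x = 0) : IsZero ((EtCoh.Rpush f (p + 1)).obj F) := by
  rw [isZero_iff_stalk]
  intro Ω _ _ ξ
  refine AddCommGrpCat.isZero_iff_subsingleton.2 (subsingleton_of_forall_eq 0 fun q => ?_)
  obtain ⟨U, z, s, rfl⟩ := germ_surjective ξ _ q
  obtain ⟨V, g, v, m, hv, hm, hm0⟩ := exists_nsmul_Rpush f F p (· = 1) (fun P _ x => ⟨1, rfl, by rw [h P x, smul_zero]⟩) U s (ptOf z)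
  obtain ⟨y, rfl⟩ := exists_fiber_lift g z v hv
  subst hm
  rw [one_nsmul] at hm0
  refine (ConstSheaf.germ_map ξ _ g y s).symm.trans ?_
  exact (congrArg (fun t => germ ξ ((EtCoh.Rpush f (p + 1)).obj F) V y t) hm0).trans
    (map_zero (germ ξ ((EtCoh.Rpush f (p + 1)).obj F) V y).hom)

variable [PreservesFiniteLimits (EtCoh.pull f)]

theorem injective_push (I : EtCoh.Ab X) [Injective I] : Injective ((EtCoh.push f).obj I) :=
  Injective.injective_of_adjoint (EtCoh.pullPushAdj f) I

theorem preservesFiniteLimits_push : PreservesFiniteLimits (EtCoh.push f) :=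
  (EtCoh.pullPushAdj f).rightAdjoint_preservesLimits.{0, 0}.preservesFiniteLimits

/-- `R¹f_*` is the cokernel of the direct image of the quotient map of an injective embedding. -/
theorem nonempty_Rpush_one_iso_cokernel (F : EtCoh.Ab X) :
    Nonempty ((EtCoh.Rpush f 1).obj F ≅ cokernel ((EtCoh.push f).map (cokernel.π (Injective.ι F)))) := by
  haveI := preservesFiniteLimits_push f
  let S := ShortComplex.mk (Injective.ι F) (cokernel.π (Injective.ι F)) (cokernel.condition _)
  have hS : S.ShortExact :=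
    { exact := ShortComplex.exact_cokernel _, mono_f := inferInstanceAs (Mono (Injective.ι F)),
      epi_g := inferInstanceAs (Epi (cokernel.π (Injective.ι F))) }
  obtain ⟨T, hT, e₁, e₂, -, a₂, a₃, ha₂, ha₃, hc⟩ :=
    H16Derived.AcyclicLES.exists_les (EtCoh.push f) S hS
  have hI : IsZero (T.X₂.homology ((1 : ℕ) : ℤ)) :=
    ((EtCoh.push f).isZero_rightDerived_obj_injective_succ 0 (Injective.under F)).of_iso (e₂ 1).some.symm
  haveI : Epi (hT.δ (0 : ℤ) ((1 : ℕ) : ℤ) (by simp)) :=
    (hT.homology_exact₁ (0 : ℤ) ((1 : ℕ) : ℤ) _).epi_f (hI.eq_of_tgt _ _)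
  have hcok := (hT.homology_exact₃ (0 : ℤ) ((1 : ℕ) : ℤ) _).gIsCokernel
  exact ⟨(e₁ 1).some ≪≫ (colimit.isoColimitCocone ⟨_, hcok⟩).symm ≪≫
    (cokernel.mapIso ((EtCoh.push f).map S.g) _ (asIso a₂) (asIso a₃) hc.symm).symm⟩

/-- The embedding of the image part of `f_*` of the quotient. -/
theorem mono_desc_push (F : EtCoh.Ab X) :
    Mono (cokernel.desc ((EtCoh.push f).map (Injective.ι F)) ((EtCoh.push f).map (cokernel.π (Injective.ι F)))
      (by rw [← Functor.map_comp, cokernel.condition, Functor.map_zero])) := by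
  haveI := preservesFiniteLimits_push f
  let S := ShortComplex.mk (Injective.ι F) (cokernel.π (Injective.ι F)) (cokernel.condition _)
  have h : (S.map (EtCoh.push f)).Exact := (ShortComplex.exact_cokernel (Injective.ι F) :
    S.Exact).map_of_mono_of_preservesKernel (EtCoh.push f) (inferInstanceAs (Mono (Injective.ι F))) inferInstance
  exact h.mono_cokernelDesc

theorem comp_nsmul_eq {C : Type*} [Category C] [Abelian C] [HasExt C] {A B D : C} {a b c : ℕ} (x : Ext A B a)
    (z : Ext B D b) (h : a + b = c) (m : ℕ) : (m • x).comp z h = m • x.comp z h :=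
  map_nsmul (AddMonoidHom.mk' (fun t : Ext A B a => t.comp z h) fun t t' => Ext.add_comp _ _ _ _) m x

/-- Annihilators of `H¹(X, F)` annihilate `H¹(Y, f_* F)`. -/
theorem exists_nsmul_H_push_one (F : EtCoh.Ab X) (M : ℕ → Prop)
    (h : ∀ x : EtCoh.H X F 1, ∃ m, M m ∧ m • x = 0) (x : EtCoh.H Y ((EtCoh.push f).obj F) 1) :
    ∃ m, M m ∧ m • x = 0 := by
  haveI := preservesFiniteLimits_push f
  let ι := Injective.ι F
  let q := cokernel.π ι
  let π := cokernel.π ((EtCoh.push f).map ι)
  have hS : (ShortComplex.mk ((EtCoh.push f).map ι) π (cokernel.condition _)).ShortExact :=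
    { exact := ShortComplex.exact_cokernel _, mono_f := inferInstanceAs (Mono ((EtCoh.push f).map ι)),
      epi_g := inferInstanceAs (Epi π) }
  have hS' : (ShortComplex.mk ι q (cokernel.condition _)).ShortExact :=
    { exact := ShortComplex.exact_cokernel _, mono_f := inferInstanceAs (Mono ι), epi_g := inferInstanceAs (Epi q) }
  haveI := injective_push f (Injective.under F)
  obtain ⟨y, hy⟩ := Ext.covariant_sequence_exact₁ _ hS x (Ext.eq_zero_of_injective _) (zero_add 1)
  obtain ⟨y, rfl⟩ := (Ext.mk₀_bijective _ _).surjective y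
  let adj := EtCoh.pullPushAdj f
  let κ := cokernel.desc ((EtCoh.push f).map ι) ((EtCoh.push f).map q)
    (by rw [← Functor.map_comp, cokernel.condition, Functor.map_zero])
  haveI : Mono κ := mono_desc_push f F
  let φ := (EtCore.pullConst f ℤ).inv ≫ (adj.homEquiv _ _).symm (y ≫ κ)
  obtain ⟨m, hm, hm0⟩ := h ((Ext.mk₀ φ).comp hS'.extClass (zero_add 1))
  refine ⟨m, hm, ?_⟩
  obtain ⟨ψ, hψ⟩ := Ext.covariant_sequence_exact₃ _ hS' (m • Ext.mk₀ φ) (zero_add 1) (by
    exact (comp_nsmul_eq _ _ _ m).trans hm0)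
  obtain ⟨ψ, rfl⟩ := (Ext.mk₀_bijective _ _).surjective ψ
  rw [Ext.mk₀_comp_mk₀, show m • Ext.mk₀ φ = Ext.mk₀ (m • φ) from
    (map_nsmul Ext.addEquiv₀.symm m φ).symm] at hψ
  have hψ' := (Ext.mk₀_bijective _ _).injective hψ
  let θ := adj.homEquiv _ _ ((EtCore.pullConst f ℤ).hom ≫ ψ)
  have key : m • y = θ ≫ π := by
    rw [← cancel_mono κ, Category.assoc, cokernel.π_desc]
    show _ = θ ≫ (EtCoh.push f).map q
    rw [← adj.homEquiv_naturality_right, Category.assoc]
    erw [hψ']
    rw [Preadditive.comp_nsmul, Iso.hom_inv_id_assoc, Preadditive.nsmul_comp]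
    haveI : (EtCoh.pull f).Additive := Functor.additive_of_preserves_binary_products _
    show _ = adj.homAddEquiv _ _ (m • (adj.homEquiv _ _).symm (y ≫ κ))
    rw [map_nsmul]
    exact congrArg (m • ·) ((adj.homEquiv _ _).apply_symm_apply _).symm
  rw [← hy, ← comp_nsmul_eq, show m • Ext.mk₀ y = Ext.mk₀ (m • y) from
    (map_nsmul Ext.addEquiv₀.symm m y).symm, key, ← Ext.mk₀_comp_mk₀]
  refine (Ext.comp_assoc _ _ _ (add_zero 0) (zero_add 1) rfl).trans ?_
  exact (congrArg (fun z => Ext.comp _ z (zero_add 1)) hS.comp_extClass).trans (Ext.comp_zero _ _ _ _ _)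

/-- Cohomology of direct images is torsion when the higher direct images and the cohomology are. -/
theorem exists_nsmul_H_push (hH : ∀ (F : EtCoh.Ab X) (x : EtCoh.H X F 1), ∃ m, 0 < m ∧ m • x = 0)
    (hR : ∀ (F : EtCoh.Ab X) (n : ℕ) (x : EtCoh.H Y ((EtCoh.Rpush f 1).obj F) n), ∃ m, 0 < m ∧ m • x = 0) :
    ∀ (n : ℕ) (F : EtCoh.Ab X) (x : EtCoh.H Y ((EtCoh.push f).obj F) (n + 1)), ∃ m, 0 < m ∧ m • x = 0
  | 0, F, x => exists_nsmul_H_push_one f F _ (hH F) x
  | n + 1, F, x => by
    haveI := preservesFiniteLimits_push f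
    let ι := Injective.ι F
    let q := cokernel.π ι
    have hS : (ShortComplex.mk ((EtCoh.push f).map ι) (cokernel.π _) (cokernel.condition _)).ShortExact :=
      { exact := ShortComplex.exact_cokernel _, mono_f := inferInstanceAs (Mono ((EtCoh.push f).map ι)),
        epi_g := inferInstanceAs (Epi (cokernel.π _)) }
    haveI := injective_push f (Injective.under F)
    obtain ⟨y, hy⟩ := Ext.covariant_sequence_exact₁ _ hS x (Ext.eq_zero_of_injective _) rfl
    let κ := cokernel.desc ((EtCoh.push f).map ι) ((EtCoh.push f).map q)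
      (by rw [← Functor.map_comp, cokernel.condition, Functor.map_zero])
    haveI : Mono κ := mono_desc_push f F
    have hK : (ShortComplex.mk κ (cokernel.π κ) (cokernel.condition _)).ShortExact :=
      { exact := ShortComplex.exact_cokernel _, mono_f := inferInstanceAs (Mono κ),
        epi_g := inferInstanceAs (Epi (cokernel.π κ)) }
    obtain ⟨a, ha, ha0⟩ := exists_nsmul_H_push hH hR n (cokernel ι)
      (y.comp (Ext.mk₀ κ) (add_zero _))
    obtain ⟨z, hz⟩ := Ext.covariant_sequence_exact₁ _ hK (a • y)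
      ((comp_nsmul_eq _ _ _ a).trans ha0) rfl
    let e : cokernel κ ≅ (EtCoh.Rpush f 1).obj F :=
      (cokernelEpiComp (cokernel.π ((EtCoh.push f).map ι)) κ).symm ≪≫
        cokernelIsoOfEq (cokernel.π_desc _ _ _) ≪≫ (nonempty_Rpush_one_iso_cokernel f F).some.symm
    obtain ⟨b, hb, hb0⟩ := hR F n (z.comp (Ext.mk₀ e.hom) (add_zero _))
    have hz0 : b • z = 0 := by
      have := congrArg (fun t => Ext.comp t (Ext.mk₀ e.inv) (add_zero n)) hb0
      simp only [comp_nsmul_eq, Ext.zero_comp, Ext.comp_assoc_of_second_deg_zero, Ext.mk₀_comp_mk₀,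
        e.hom_inv_id, Ext.comp_mk₀_id] at this
      exact this
    refine ⟨b * a, Nat.mul_pos hb ha, ?_⟩
    have h1 : (b * a) • y = 0 := by
      rw [mul_nsmul', ← hz, ← comp_nsmul_eq, hz0, Ext.zero_comp]
    rw [← hy, ← comp_nsmul_eq, h1, Ext.zero_comp]

end Groth.Agent.H05EGA4.EtTors
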