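import Groth.Agent.H05EGA4.EtTors.Push

/-!
# Injectivity of `H^n(Y, f_* F) → H^n(X, F)` in low degrees
-/

set_option autoImplicit false
set_option linter.style.haveILetI false
set_option linter.unusedSectionVars false
set_option backward.isDefEq.respectTransparency false
set_option backward.isDefEq.respectTransparency.types false

universe u

open CategoryTheory CategoryTheory.Limits AlgebraicGeometry Opposite Abelian

namespace Groth.Agent.H05EGA4.EtTors

variable {X Y : Scheme.{u}} (f : X ⟶ Y) [PreservesFiniteLimits (EtCoh.pull f)]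

theorem HofPush_apply (F : EtCoh.Ab X) (n : ℕ) (x : EtCoh.H Y ((EtCoh.push f).obj F) n) :
    EtLim.HofPush f F n x = ((Ext.mk₀ (EtCore.pullConst f ℤ).inv).comp
      (x.mapExactFunctor (EtCoh.pull f)) (zero_add n)).comp
        (Ext.mk₀ ((EtCoh.pullPushAdj f).counit.app F)) (add_zero n) := rfl

theorem HofPush_mk₀ (F : EtCoh.Ab X) (y : EtCoh.const Y ℤ ⟶ (EtCoh.push f).obj F) :
    EtLim.HofPush f F 0 (Ext.mk₀ y) =
      Ext.mk₀ ((EtCore.pullConst f ℤ).inv ≫ ((EtCoh.pullPushAdj f).homEquiv _ _).symm y) := by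
  rw [HofPush_apply, Ext.mapExactFunctor_mk₀, Ext.mk₀_comp_mk₀, Ext.mk₀_comp_mk₀, Adjunction.homEquiv_counit,
    Category.assoc]

theorem HofPush_comp (F G : EtCoh.Ab X) (g : F ⟶ G) (n : ℕ) (x : EtCoh.H Y ((EtCoh.push f).obj F) n) :
    EtLim.HofPush f G n (x.comp (Ext.mk₀ ((EtCoh.push f).map g)) (add_zero n)) =
      (EtLim.HofPush f F n x).comp (Ext.mk₀ g) (add_zero n) := by
  simp only [HofPush_apply, Ext.mapExactFunctor_comp, Ext.mapExactFunctor_mk₀,
    Ext.comp_assoc_of_second_deg_zero, Ext.comp_assoc_of_third_deg_zero, Ext.mk₀_comp_mk₀]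
  congr 3
  exact (EtCoh.pullPushAdj f).counit.naturality g

variable (F : EtCoh.Ab X)

/-- The sequence `0 → f_*F → f_*I → K → 0`. -/
noncomputable abbrev pushSeq : ShortComplex (EtCoh.Ab Y) :=
  ShortComplex.mk ((EtCoh.push f).map (Injective.ι F)) (cokernel.π ((EtCoh.push f).map (Injective.ι F)))
    (cokernel.condition _)

theorem pushSeq_shortExact : (pushSeq f F).ShortExact := by
  haveI := preservesFiniteLimits_push f
  exact { exact := ShortComplex.exact_cokernel _,
          mono_f := inferInstanceAs (Mono ((EtCoh.push f).map (Injective.ι F))),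
          epi_g := inferInstanceAs (Epi (cokernel.π _)) }

/-- The sequence `0 → F → I → Q → 0`. -/
noncomputable abbrev baseSeq : ShortComplex (EtCoh.Ab X) :=
  ShortComplex.mk (Injective.ι F) (cokernel.π (Injective.ι F)) (cokernel.condition _)

theorem baseSeq_shortExact : (baseSeq F).ShortExact :=
  { exact := ShortComplex.exact_cokernel _, mono_f := inferInstanceAs (Mono (Injective.ι F)),
    epi_g := inferInstanceAs (Epi (cokernel.π (Injective.ι F))) }

/-- The comparison of the third terms. -/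
noncomputable abbrev kappa :
    cokernel ((EtCoh.push f).map (Injective.ι F)) ⟶ (EtCoh.push f).obj (cokernel (Injective.ι F)) :=
  cokernel.desc ((EtCoh.push f).map (Injective.ι F)) ((EtCoh.push f).map (cokernel.π (Injective.ι F)))
    (by rw [← Functor.map_comp, cokernel.condition, Functor.map_zero])

theorem HofPush_extClass (n : ℕ) (y : EtCoh.H Y (cokernel ((EtCoh.push f).map (Injective.ι F))) n) {m : ℕ}
    (hm : n + 1 = m) :
    EtLim.HofPush f F m (y.comp (pushSeq_shortExact f F).extClass hm) =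
      (EtLim.HofPush f (cokernel (Injective.ι F)) n (y.comp (Ext.mk₀ (kappa f F)) (add_zero n))).comp
        (baseSeq_shortExact F).extClass hm := by
  subst hm
  let ε := (EtCoh.pullPushAdj f).counit
  have hA := (pushSeq_shortExact f F).map_of_exact (EtCoh.pull f)
  let θ : (pushSeq f F).map (EtCoh.pull f) ⟶ baseSeq F :=
    { τ₁ := ε.app F
      τ₂ := ε.app (Injective.under F)
      τ₃ := (EtCoh.pull f).map (kappa f F) ≫ ε.app (cokernel (Injective.ι F))
      comm₁₂ := (ε.naturality (Injective.ι F)).symm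
      comm₂₃ := by
        show ε.app (Injective.under F) ≫ cokernel.π (Injective.ι F) = (EtCoh.pull f).map (cokernel.π _) ≫
          (EtCoh.pull f).map (kappa f F) ≫ ε.app _
        rw [← (EtCoh.pull f).map_comp_assoc, cokernel.π_desc]
        exact (ε.naturality (cokernel.π (Injective.ι F))).symm }
  have hn := ShortComplex.ShortExact.extClass_naturality hA (baseSeq_shortExact F) θ
  simp only [HofPush_apply, Ext.mapExactFunctor_comp, Ext.mapExactFunctor_extClass, Ext.mapExactFunctor_mk₀]
  simp only [Ext.comp_assoc_of_second_deg_zero, Ext.comp_assoc_of_third_deg_zero, Ext.mk₀_comp_mk₀]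
  erw [hn]
  rw [← Ext.mk₀_comp_mk₀]
  simp only [Ext.comp_assoc_of_second_deg_zero, Ext.comp_assoc_of_third_deg_zero, Ext.mk₀_comp_mk₀,
    Ext.mk₀_comp_mk₀_assoc]
  refine ((Ext.comp_assoc (a₁₂ := n) (a₂₃ := n + 1) _ _ _ (zero_add n) rfl (by omega)).trans ?_).symm
  refine congrArg (fun t => Ext.comp _ t (zero_add (n + 1))) ?_
  exact Ext.comp_assoc (a₁₂ := n) (a₂₃ := 1) _ _ _ (add_zero n) (zero_add 1) (by omega)

theorem injective_HofPush_one : Function.Injective (EtLim.HofPush f F 1) := by
  rw [injective_iff_map_eq_zero]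
  intro x hx
  haveI := injective_push f (Injective.under F)
  obtain ⟨y, rfl⟩ := Ext.covariant_sequence_exact₁ _ (pushSeq_shortExact f F) x (Ext.eq_zero_of_injective _)
    (zero_add 1)
  obtain ⟨y, rfl⟩ := (Ext.mk₀_bijective _ _).surjective y
  rw [HofPush_extClass, Ext.mk₀_comp_mk₀, HofPush_mk₀] at hx
  obtain ⟨ψ, hψ⟩ := Ext.covariant_sequence_exact₃ _ (baseSeq_shortExact F) _ (zero_add 1) hx
  obtain ⟨ψ, rfl⟩ := (Ext.mk₀_bijective _ _).surjective ψ
  rw [Ext.mk₀_comp_mk₀] at hψ
  have hψ' := (Ext.mk₀_bijective _ _).injective hψ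
  let θ := (EtCoh.pullPushAdj f).homEquiv _ _ ((EtCore.pullConst f ℤ).hom ≫ ψ)
  haveI : Mono (kappa f F) := mono_desc_push f F
  have key : y = θ ≫ cokernel.π ((EtCoh.push f).map (Injective.ι F)) := by
    rw [← cancel_mono (kappa f F), Category.assoc, cokernel.π_desc, ← Adjunction.homEquiv_naturality_right,
      Category.assoc]
    erw [hψ']
    rw [Iso.hom_inv_id_assoc, Equiv.apply_symm_apply]
  rw [key, ← Ext.mk₀_comp_mk₀]
  refine (Ext.comp_assoc _ _ _ (add_zero 0) (zero_add 1) rfl).trans ?_
  exact (congrArg (fun z => Ext.comp _ z (zero_add 1)) (pushSeq_shortExact f F).comp_extClass).trans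
    (Ext.comp_zero _ _ _ _ _)

theorem injective_HofPush_two (hR : IsZero ((EtCoh.Rpush f 1).obj F)) :
    Function.Injective (EtLim.HofPush f F 2) := by
  rw [injective_iff_map_eq_zero]
  intro x hx
  haveI := injective_push f (Injective.under F)
  obtain ⟨y, rfl⟩ := Ext.covariant_sequence_exact₁ _ (pushSeq_shortExact f F) x (Ext.eq_zero_of_injective _)
    (rfl : 1 + 1 = 2)
  rw [HofPush_extClass] at hx
  obtain ⟨z, hz⟩ := Ext.covariant_sequence_exact₃ _ (baseSeq_shortExact F) _ rfl hx
  haveI : Injective (baseSeq F).X₂ := inferInstanceAs (Injective (Injective.under F))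
  rw [Ext.eq_zero_of_injective z, Ext.zero_comp] at hz
  have h0 := injective_HofPush_one f (cokernel (Injective.ι F)) (hz.symm.trans (map_zero _).symm)
  haveI : Mono (kappa f F) := mono_desc_push f F
  haveI : IsIso (kappa f F) := by
    haveI : Epi (kappa f F) := Preadditive.epi_of_cokernel_zero ((hR.of_iso
      ((cokernelEpiComp (cokernel.π ((EtCoh.push f).map (Injective.ι F))) (kappa f F)).symm ≪≫
        cokernelIsoOfEq (cokernel.π_desc _ _ _) ≪≫ (nonempty_Rpush_one_iso_cokernel f F).some.symm)).eq_of_tgt _ _)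
    exact isIso_of_mono_of_epi _
  have hy : y = 0 := by
    have := congrArg (fun t => Ext.comp t (Ext.mk₀ (inv (kappa f F))) (add_zero 1)) h0
    simpa only [Ext.zero_comp, Ext.comp_assoc_of_second_deg_zero, Ext.mk₀_comp_mk₀, IsIso.hom_inv_id,
      Ext.comp_mk₀_id] using this
  rw [hy, Ext.zero_comp]

end Groth.Agent.H05EGA4.EtTors
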