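import Groth.Agent.H05EGA4.EtTors.Point
import Groth.Agent.H05EGA4.EtTors.HofPush
import Groth.Agent.H05EGA4.EtTateRes
import Groth.Agent.H18Et.ConstHom
import Groth.Agent.S13680

/-!
# Vanishing statements for `i_{x*} G_m` and `i_{x*} M`
-/

set_option autoImplicit false
set_option linter.style.haveILetI false
set_option linter.unusedSectionVars false
set_option backward.isDefEq.respectTransparency false
set_option backward.isDefEq.respectTransparency.types false

universe u

open CategoryTheory CategoryTheory.Limits AlgebraicGeometry Opposite Abelian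

namespace Groth.Agent.H05EGA4.EtTors

open Groth.Agent.H9GalCoh (Transfer.str Transfer.sp)
open Groth.Agent.H18Et.ConstSheaf
open scoped Groth.Agent.H18Et

theorem eq_zero_of_hom_finite_group {G : Type*} [Group G] [Finite G] {A : Type*} [AddCommGroup A]
    (hA : ∀ (n : ℕ) (a : A), 0 < n → n • a = 0 → a = 0) (c : G → A) (hc : ∀ s t, c (s * t) = c t + c s) (s : G) :
    c s = 0 := by
  have h1 : c 1 = 0 := by
    have := hc 1 1
    rw [one_mul] at this
    exact left_eq_add.1 this
  have h2 : ∀ k : ℕ, c (s ^ k) = k • c s := by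
    intro k
    induction k with
    | zero => simpa using h1
    | succ k ih => rw [pow_succ, hc, ih, succ_nsmul, add_comm]
  refine hA (orderOf s) _ (orderOf_pos s) ?_
  rw [← h2, pow_orderOf_eq_one, h1]

/-- The first cohomology of a field with torsion-free constant coefficients vanishes. -/
theorem subsingleton_H1_const (K : Type u) [Field K] (M : Type) [AddCommGroup M] [IsAddTorsionFree M] :
    Subsingleton (EtCoh.H (Spec (CommRingCat.of K)) (EtCoh.const (Spec (CommRingCat.of K)) M) 1) := by
  refine H9GalCoh.H1Galois.subsingleton_H1 _ fun L _ _ _ _ c hc => ?_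
  let A := AddCommGrpCat.of (ULift.{u + 1} M)
  let h := isConstant_unitTop (X := Spec (CommRingCat.of K)) A
  let sp := Transfer.sp K L
  haveI : Subsingleton sp.left := inferInstanceAs (Subsingleton (PrimeSpectrum L))
  let w : sp.left := (default : PrimeSpectrum L)
  have hsurj : ∀ s : EtCoh.sect (EtCoh.const (Spec (CommRingCat.of K)) M) sp,
      ∃ m, s = rest (EtCoh.const (Spec (CommRingCat.of K)) M) sp (unitTop A m) := fun s => by
    obtain ⟨m, hm⟩ := exists_mem_locus h s w
    exact ⟨m, eq_rest h s m fun x => Subsingleton.elim w x ▸ hm⟩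
  have htriv : ∀ (g : sp ⟶ sp) (s : EtCoh.sect (EtCoh.const (Spec (CommRingCat.of K)) M) sp),
      (EtCoh.const (Spec (CommRingCat.of K)) M).obj.map g.op s = s := fun g s => by
    obtain ⟨m, rfl⟩ := hsurj s
    exact map_rest _ g _
  have htf : ∀ (n : ℕ) (a : EtCoh.sect (EtCoh.const (Spec (CommRingCat.of K)) M) sp), 0 < n → n • a = 0 → a = 0 := by
    intro n a hn ha
    obtain ⟨m, rfl⟩ := hsurj a
    have h0 : rest (EtCoh.const (Spec (CommRingCat.of K)) M) sp (unitTop A 0) = 0 := by
      rw [show unitTop A (0 : A) = 0 from map_zero _]; exact map_zero _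
    have h1 : rest (EtCoh.const (Spec (CommRingCat.of K)) M) sp (unitTop A (n • m)) =
        rest (EtCoh.const (Spec (CommRingCat.of K)) M) sp (unitTop A 0) := by
      rw [h0, show unitTop A (n • m) = n • unitTop A m from map_nsmul _ n m]
      exact (map_nsmul _ n _).trans ha
    have h2 : n • m.down = 0 := congrArg ULift.down (eq_of_rest_eq h (U := sp) w h1)
    rw [show m = 0 from ULift.ext _ _ ((smul_eq_zero_iff_right hn.ne').1 h2)]
    exact h0
  refine ⟨0, fun s => ?_⟩
  rw [map_zero, sub_zero]
  exact eq_zero_of_hom_finite_group htf c (fun s t => by rw [hc, htriv]) s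

/-- Hilbert 90 on quasi-compact étale objects over a field. -/
theorem ext_one_Gm_eq_zero {K : Type u} [Field K] {W : (Spec (CommRingCat.of K)).Etale} [CompactSpace W.left]
    (x : Ext ((H18Et.FreeSheaf.free _).obj W) (EtCoh.Gm (Spec (CommRingCat.of K))) 1) : x = 0 := by
  obtain ⟨m, rfl, hm⟩ := ext_of_points x (· = 1) rfl (fun a b ha hb => by rw [ha, hb]) fun L => fun y => by
    refine ⟨1, rfl, ?_⟩
    let e := (H18Et.EtaleRestrict.pullIso (Transfer.str K L)).app (EtCoh.Gm (Spec (CommRingCat.of K))) ≪≫
      (EtTateRes.nonempty_res_Gm (Transfer.str K L)).some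
    haveI := S13680.subsingleton_H1_Gm (K := L)
    have h0 : y.comp (Ext.mk₀ e.hom) (add_zero 1) = 0 := Subsingleton.elim (α := EtCoh.H _ _ 1) _ _
    have := congrArg (fun t => Ext.comp t (Ext.mk₀ e.inv) (add_zero 1)) h0
    simp only [Ext.zero_comp, Ext.comp_assoc_of_second_deg_zero, Ext.mk₀_comp_mk₀, e.hom_inv_id,
      Ext.comp_mk₀_id] at this
    rw [one_smul, this]
  rwa [one_smul] at hm

variable (X : Scheme.{u}) [CompactSpace X] [QuasiSeparatedSpace X] (x : X)

theorem isZero_Rpush_one_Gm_point :
    IsZero ((EtCoh.Rpush (X.fromSpecResidueField x) 1).obj (EtCoh.Gm (Spec (X.residueField x)))) :=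
  isZero_Rpush_succ _ _ 0 fun P _ y => by
    haveI := compactSpace_bc_point X x P
    exact ext_one_Gm_eq_zero (K := X.residueField x) y

theorem subsingleton_H1_skyPush_Gm :
    Subsingleton (EtCoh.H X ((Dix.skyPush X x).obj (EtCoh.Gm (Spec (X.residueField x)))) 1) := by
  haveI := H18Et.pull_preservesFiniteLimits (X.fromSpecResidueField x)
  haveI := S13680.subsingleton_H1_Gm (K := X.residueField x)
  refine subsingleton_of_forall_eq 0 fun y => ?_
  exact injective_HofPush_one (X.fromSpecResidueField x) _
    (Subsingleton.elim (α := EtCoh.H (Spec (CommRingCat.of (X.residueField x))) _ 1) _ _)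

theorem subsingleton_H1_skyPush_const (M : Type) [AddCommGroup M] [IsAddTorsionFree M] :
    Subsingleton (EtCoh.H X ((Dix.skyPush X x).obj (EtCoh.const (Spec (X.residueField x)) M)) 1) := by
  haveI := H18Et.pull_preservesFiniteLimits (X.fromSpecResidueField x)
  haveI := subsingleton_H1_const (X.residueField x) M
  refine subsingleton_of_forall_eq 0 fun y => ?_
  exact injective_HofPush_one (X.fromSpecResidueField x) _
    (Subsingleton.elim (α := EtCoh.H (Spec (CommRingCat.of (X.residueField x))) _ 1) _ _)

end Groth.Agent.H05EGA4.EtTors
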