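import Groth.Agent.H05EGA4.EtTors.Field
import Groth.Agent.H05EGA4.EtTors.Push
import Groth.Prelude.Def_Dix

/-!
# Direct images along the inclusion of a point
-/

set_option autoImplicit false
set_option linter.style.haveILetI false
set_option linter.unusedSectionVars false
set_option backward.isDefEq.respectTransparency false
set_option backward.isDefEq.respectTransparency.types false

universe u

open CategoryTheory CategoryTheory.Limits AlgebraicGeometry Opposite Abelian

namespace Groth.Agent.H05EGA4.EtTors

open scoped Groth.Agent.H18Et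

variable (X : Scheme.{u}) [CompactSpace X] [QuasiSeparatedSpace X] (x : X)

theorem compactSpace_bc_point (P : X.Etale) [IsAffine P.left] :
    CompactSpace ((EtCoh.bc (X.fromSpecResidueField x)).obj P).left :=
  (H18Et.Coh.qcqs_bc (X.fromSpecResidueField x) P).1

theorem isTorsion_Rpush_point (F : EtCoh.Ab (Spec (X.residueField x))) (p : ℕ) :
    EtCoh.IsTorsion ((EtCoh.Rpush (X.fromSpecResidueField x) (p + 1)).obj F) :=
  isTorsion_Rpush_succ _ F p fun P _ y => by
    haveI := compactSpace_bc_point X x P
    exact exists_nsmul_ext_field (K := X.residueField x) (Nat.succ_pos p) y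

theorem isOfFinAddOrder_H_point (F : EtCoh.Ab (Spec (X.residueField x))) (n : ℕ)
    (y : EtCoh.H (Spec (X.residueField x)) F (n + 1)) : ∃ m, 0 < m ∧ m • y = 0 :=
  isOfFinAddOrder_iff_nsmul_eq_zero.1
    (H9GalCoh.Killing.isOfFinAddOrder (K := X.residueField x) F (n + 1) n.succ_pos y)

theorem isAddTorsion_H_skyPush (F : EtCoh.Ab (Spec (X.residueField x))) (n : ℕ)
    (y : EtCoh.H X ((Dix.skyPush X x).obj F) (n + 1)) : ∃ m, 0 < m ∧ m • y = 0 := by
  haveI := H18Et.pull_preservesFiniteLimits (X.fromSpecResidueField x)
  exact exists_nsmul_H_push (X.fromSpecResidueField x) (fun F z => isOfFinAddOrder_H_point X x F 0 z)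
    (fun F k z => isOfFinAddOrder_iff_nsmul_eq_zero.1 (S0124.result X _ (isTorsion_Rpush_point X x F 0) k z)) n F y

end Groth.Agent.H05EGA4.EtTors
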