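import Groth.Agent.H9GalCoh.Killing
import Groth.Agent.H18Et.PushClosed

/-!
# `Ext` groups out of quasi-compact étale objects over a field
-/

set_option autoImplicit false
set_option linter.style.haveILetI false
set_option linter.unusedSectionVars false
set_option backward.isDefEq.respectTransparency false
set_option backward.isDefEq.respectTransparency.types false

universe u

open CategoryTheory CategoryTheory.Limits AlgebraicGeometry Opposite Abelian

namespace Groth.Agent.H05EGA4.EtTors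

open Groth.Agent.H9GalCoh (Transfer.str)
open scoped Groth.Agent.H18Et

variable {K : Type u} [Field K]

/-- Every point of an étale scheme over a field is the spectrum of a finite separable extension, openly. -/
theorem exists_point_nbhd (W : (Spec (CommRingCat.of K)).Etale) (w : W.left) :
    ∃ (L : Type u) (_ : Field L) (_ : Algebra K L) (_ : FiniteDimensional K L) (_ : Algebra.IsSeparable K L)
      (_ : AlgebraicGeometry.Etale (Transfer.str K L))
      (ρ : H18Et.FreeSheaf.obj (Transfer.str K L) ⟶ W), IsOpenImmersion ρ.left ∧ Set.range ρ.left.base = {w} := by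
  obtain ⟨_, ⟨O₁, hO₁, rfl⟩, hw₁, -⟩ :=
    W.left.isBasis_affineOpens.exists_subset_of_mem_open (Set.mem_univ w) isOpen_univ
  haveI : AlgebraicGeometry.Etale W.hom := W.prop
  haveI : IsAffine (O₁ : Scheme.{u}) := hO₁
  -- the topology of an affine piece is discrete
  obtain ⟨ψ₁, hψ₁⟩ : ∃ ψ, Spec.map ψ = hO₁.fromSpec ≫ W.hom := ⟨_, Spec.map_preimage _⟩
  haveI hψe₁ : AlgebraicGeometry.Etale (Spec.map ψ₁) := by rw [hψ₁]; infer_instance
  letI : Algebra K Γ(W.left, O₁) := ψ₁.hom.toAlgebra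
  haveI : Algebra.Etale K Γ(W.left, O₁) :=
    RingHom.etale_algebraMap.mp ((HasRingHomProperty.Spec_iff (P := @AlgebraicGeometry.Etale)).1 hψe₁)
  haveI : Module.Finite K Γ(W.left, O₁) := Algebra.FormallyUnramified.finite_of_free K _
  haveI : IsArtinianRing Γ(W.left, O₁) := IsArtinianRing.of_finite K _
  haveI : DiscreteTopology (Spec Γ(W.left, O₁)) := inferInstanceAs (DiscreteTopology (PrimeSpectrum Γ(W.left, O₁)))
  have hopen : IsOpen ({w} : Set W.left) := by
    obtain ⟨x, hx⟩ := hO₁.range_fromSpec.ge hw₁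
    rw [← hx, ← Set.image_singleton]
    exact hO₁.fromSpec.isOpenEmbedding.isOpenMap _ (isOpen_discrete _)
  let O : W.left.Opens := ⟨{w}, hopen⟩
  haveI : Subsingleton O.toScheme := ⟨fun a b => Subtype.ext (a.2.trans b.2.symm)⟩
  have hO : IsAffineOpen O := by
    obtain ⟨_, ⟨O₂, hO₂, rfl⟩, hw₂, hle⟩ :=
      W.left.isBasis_affineOpens.exists_subset_of_mem_open (show w ∈ (O : Set W.left) from rfl) O.2
    rwa [show O = O₂ from le_antisymm (fun z hz => (show z = w from hz) ▸ hw₂) hle]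
  obtain ⟨ψ, hψ⟩ : ∃ ψ, Spec.map ψ = hO.fromSpec ≫ W.hom := ⟨_, Spec.map_preimage _⟩
  haveI hψe : AlgebraicGeometry.Etale (Spec.map ψ) := by rw [hψ]; infer_instance
  let B := Γ(W.left, O)
  letI : Algebra K B := ψ.hom.toAlgebra
  haveI : Algebra.Etale K B :=
    RingHom.etale_algebraMap.mp ((HasRingHomProperty.Spec_iff (P := @AlgebraicGeometry.Etale)).1 hψe)
  haveI : Module.Finite K B := Algebra.FormallyUnramified.finite_of_free K B
  haveI : IsArtinianRing B := IsArtinianRing.of_finite K B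
  haveI : IsReduced B := Algebra.FormallyUnramified.isReduced_of_field K B
  haveI : Nontrivial B := PrimeSpectrum.nonempty_iff_nontrivial.1 ⟨hO.primeIdealOf ⟨w, rfl⟩⟩
  haveI : Subsingleton (PrimeSpectrum B) := by
    have hinj : Function.Injective hO.fromSpec.base := hO.fromSpec.isOpenEmbedding.injective
    refine ⟨fun a b => hinj ?_⟩
    exact (Set.mem_singleton_iff.1 (hO.range_fromSpec.le ⟨a, rfl⟩)).trans
      (Set.mem_singleton_iff.1 (hO.range_fromSpec.le ⟨b, rfl⟩)).symm
  have hB : IsField B := PrimeSpectrum.subsingleton_iff_isField_of_isReduced.1 inferInstance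
  letI := hB.toField
  haveI : Algebra.IsSeparable K B := Algebra.FormallyUnramified.isSeparable K B
  haveI he := Groth.Agent.H9GalCoh.Transfer.etale_str K B
  refine ⟨B, inferInstance, inferInstance, inferInstance, inferInstance, he,
    MorphismProperty.Over.homMk hO.fromSpec ?_, (inferInstance : IsOpenImmersion hO.fromSpec), hO.range_fromSpec⟩
  show hO.fromSpec ≫ W.hom = 𝟙 _ ≫ Transfer.str K B
  rw [Category.id_comp, ← hψ]
  rfl

/-- The identity of the free sheaf on a compact étale object decomposes along its points. -/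
theorem exists_decomp (W : (Spec (CommRingCat.of K)).Etale) [CompactSpace W.left] :
    ∃ (J : Type u) (_ : Fintype J) (L : J → Type u) (_ : ∀ p, Field (L p)) (_ : ∀ p, Algebra K (L p))
      (_ : ∀ p, FiniteDimensional K (L p)) (_ : ∀ p, Algebra.IsSeparable K (L p))
      (_ : ∀ p, AlgebraicGeometry.Etale (Transfer.str K (L p)))
      (ρ : ∀ p, H18Et.FreeSheaf.obj (Transfer.str K (L p)) ⟶ W)
      (e : ∀ p, (H18Et.FreeSheaf.free _).obj W ⟶ (H18Et.FreeSheaf.free _).obj (H18Et.FreeSheaf.obj (Transfer.str K (L p)))),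
      (∑ p, e p ≫ (H18Et.FreeSheaf.free _).map (ρ p)) = 𝟙 _ := by
  classical
  choose L i₁ i₂ i₃ i₄ i₅ ρ hρ hr using exists_point_nbhd W
  obtain ⟨J, hJ⟩ := (isCompact_univ (X := W.left)).elim_finite_subcover
    (fun w => Set.range (ρ w).left.base) (fun w => by haveI := hρ w; exact (ρ w).left.isOpenEmbedding.isOpen_range)
    (fun w _ => Set.mem_iUnion.2 ⟨w, (hr w).ge rfl⟩)
  let V : ↥J → (Spec (CommRingCat.of K)).Etale := fun p =>
    letI := i₁ p.1; letI := i₂ p.1; letI := i₅ p.1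
    H18Et.FreeSheaf.obj (Transfer.str K (L p.1))
  let σ : ∀ p : ↥J, V p ⟶ W := fun p => ρ p.1
  have hmono : ∀ p, Mono (σ p) := fun p => ⟨fun a b hab => MorphismProperty.Over.Hom.ext (by
    haveI := hρ p.1
    exact (cancel_mono (ρ p.1).left).1 (congrArg (fun k => k.left) hab))⟩
  have hdis : ∀ (p q : ↥J) (Z : (Spec (CommRingCat.of K)).Etale) (a : Z ⟶ V p) (b : Z ⟶ V q),
      a ≫ σ p = b ≫ σ q → p ≠ q → IsEmpty Z.left := by
    intro p q Z a b hab hpq
    refine ⟨fun z => hpq (Subtype.ext ?_)⟩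
    have h := congrArg (fun k => k.left.base z) hab
    exact ((hr p.1).le ⟨a.left.base z, rfl⟩).symm.trans
      ((((congrArg (fun k : Z.left ⟶ W.left => k z) (congrArg (fun k => k.left) hab))).trans rfl).trans
        ((hr q.1).le ⟨b.left.base z, rfl⟩))
  have hcov : ∀ G : EtCoh.Ab (Spec (CommRingCat.of K)), Presieve.IsSheafFor
      (G.obj ⋙ CategoryTheory.forget AddCommGrpCat.{u + 1}) (Presieve.ofArrows V σ) := by
    intro G
    rw [Presieve.isSheafFor_iff_generate]
    refine ((isSheaf_iff_isSheaf_of_type _ _).1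
      ((sheafCompose _ (CategoryTheory.forget AddCommGrpCat.{u + 1})).obj G).property) _ ?_
    refine H18Et.mem_topology_of_forall_point _ fun x => ?_
    obtain ⟨p, hp, v, hv⟩ : ∃ p, ∃ (_ : p ∈ J), x ∈ Set.range (ρ p).left.base := by
      obtain ⟨p, hp, hx⟩ := Set.mem_iUnion₂.1 (hJ (Set.mem_univ x))
      exact ⟨p, hp, hx⟩
    exact ⟨V ⟨p, hp⟩, σ ⟨p, hp⟩, v, ⟨_, 𝟙 _, σ ⟨p, hp⟩, Presieve.ofArrows.mk (⟨p, hp⟩ : ↥J), Category.id_comp _⟩, hv⟩
  let δ : ∀ p q : ↥J, EtCoh.sect ((H18Et.FreeSheaf.free _).obj (V p)) (V q) := fun p q =>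
    if h : q = p then ((H18Et.FreeSheaf.free _).obj (V p)).obj.map (eqToHom (congrArg V h)).op
      (H18Et.FreeSheaf.homEquiv (V p) _ (𝟙 _)) else 0
  have hglue : ∀ p : ↥J, ∃ s : EtCoh.sect ((H18Et.FreeSheaf.free _).obj (V p)) W,
      ∀ q, ((H18Et.FreeSheaf.free _).obj (V p)).obj.map (σ q).op s = δ p q := fun p => by
    obtain ⟨s, hs, -⟩ := (Presieve.isSheafFor_arrows_iff _ _).1 (hcov ((H18Et.FreeSheaf.free _).obj (V p)))
      (δ p) fun q q' Z a b hab => by
        by_cases hqq : q = q'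
        · subst hqq
          haveI := hmono q
          obtain rfl : a = b := (cancel_mono (σ q)).1 hab
          rfl
        · haveI := H18Et.subsingleton_sect_of_isEmpty ((H18Et.FreeSheaf.free _).obj (V p)) Z
            (hdis q q' Z a b hab hqq)
          exact Subsingleton.elim (α := EtCoh.sect ((H18Et.FreeSheaf.free _).obj (V p)) Z) _ _
    exact ⟨s, hs⟩
  choose s hs using hglue
  refine ⟨↥J, inferInstance, fun p => L p.1, fun p => i₁ p.1, fun p => i₂ p.1, fun p => i₃ p.1, fun p => i₄ p.1,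
    fun p => i₅ p.1, σ, fun p => (H18Et.FreeSheaf.homEquiv W _).symm (s p), ?_⟩
  refine (H18Et.FreeSheaf.homEquiv W _).injective ((hcov ((H18Et.FreeSheaf.free _).obj W)).isSeparatedFor.ext
    fun Z f hf => ?_)
  obtain ⟨q⟩ := hf
  show ((H18Et.FreeSheaf.free _).obj W).obj.map (σ q).op _ = ((H18Et.FreeSheaf.free _).obj W).obj.map (σ q).op _
  rw [← H18Et.FreeSheaf.homEquiv_map, ← H18Et.FreeSheaf.homEquiv_map, Preadditive.comp_sum]
  refine congrArg _ ((Finset.sum_eq_single q (fun p _ hpq => ?_) (fun h => absurd (Finset.mem_univ q) h)).trans ?_)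
  · have h0 : (H18Et.FreeSheaf.free _).map (σ q) ≫ (H18Et.FreeSheaf.homEquiv W _).symm (s p) = 0 := by
      refine (H18Et.FreeSheaf.homEquiv _ _).injective ?_
      rw [H18Et.FreeSheaf.homEquiv_map, Equiv.apply_symm_apply, hs,
        show δ p q = 0 from dif_neg (Ne.symm hpq)]
      rw [show (0 : (H18Et.FreeSheaf.free _).obj (V q) ⟶ (H18Et.FreeSheaf.free _).obj (V p)) =
        (0 : _ ⟶ (H18Et.FreeSheaf.free _).obj (V p)) ≫ (0 : _ ⟶ (H18Et.FreeSheaf.free _).obj (V p)) by simp,
        H18Et.FreeSheaf.homEquiv_comp]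
      rfl
    exact (Category.assoc _ _ _).symm.trans ((congrArg (· ≫ _) h0).trans zero_comp)
  · have h1 : (H18Et.FreeSheaf.free _).map (σ q) ≫ (H18Et.FreeSheaf.homEquiv W _).symm (s q) = 𝟙 _ := by
      refine (H18Et.FreeSheaf.homEquiv _ _).injective ?_
      rw [H18Et.FreeSheaf.homEquiv_map, Equiv.apply_symm_apply, hs, show δ q q = _ from dif_pos rfl]
      simp only [eqToHom_refl, op_id, CategoryTheory.Functor.map_id]
      rfl
    exact ((Category.assoc _ _ _).symm.trans ((congrArg (· ≫ _) h1).trans (Category.id_comp _))).trans (Category.comp_id _).symm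

theorem nsmul_eq_zero_of_decomp {C : Type*} [Category C] [Abelian C] [HasExt C] {A B : C} {J : Type*} [Fintype J]
    {P : J → C} (f : ∀ p, P p ⟶ A) (e : ∀ p, A ⟶ P p) (hsum : ∑ p, e p ≫ f p = 𝟙 A) {n : ℕ} (x : Ext A B n)
    (m : J → ℕ) (hmx : ∀ p, m p • (Ext.mk₀ (f p)).comp x (zero_add n) = 0) : (∏ p, m p) • x = 0 := by
  classical
  let Φ := Ext.bilinearComp A A B 0 n n (zero_add n)
  let ψ : (A ⟶ A) →+ Ext A B n := AddMonoidHom.mk' (fun g => (Ext.mk₀ g).comp x (zero_add n))
    fun g g' => by rw [Ext.mk₀_add, Ext.add_comp]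
  have hx : x = ∑ p, (Ext.mk₀ (e p)).comp ((Ext.mk₀ (f p)).comp x (zero_add n)) (zero_add n) :=
    (Ext.mk₀_id_comp x).symm.trans ((congrArg ψ hsum.symm).trans ((map_sum ψ _ _).trans
      (Finset.sum_congr rfl fun p _ => (Ext.mk₀_comp_mk₀_assoc (e p) (f p) x).symm)))
  rw [hx, Finset.smul_sum]
  refine Finset.sum_eq_zero fun p _ => ?_
  obtain ⟨k, hk⟩ := Finset.dvd_prod_of_mem m (Finset.mem_univ p)
  let θ : Ext (P p) B n →+ Ext A B n := AddMonoidHom.mk' (fun z => (Ext.mk₀ (e p)).comp z (zero_add n))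
    fun z z' => Ext.comp_add _ _ _ _
  show (∏ i, m i) • θ ((Ext.mk₀ (f p)).comp x (zero_add n)) = 0
  rw [← map_nsmul, hk, mul_comm, mul_nsmul', hmx p, nsmul_zero, map_zero]

/-- A property of classes at points propagates to compact objects. -/
theorem ext_of_points {W : (Spec (CommRingCat.of K)).Etale} [CompactSpace W.left]
    {F : EtCoh.Ab (Spec (CommRingCat.of K))} {n : ℕ} (x : Ext ((H18Et.FreeSheaf.free _).obj W) F n)
    (M : ℕ → Prop) (h1 : M 1) (hmul : ∀ a b, M a → M b → M (a * b))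
    (h : ∀ (L : Type u) [Field L] [Algebra K L] [FiniteDimensional K L] [Algebra.IsSeparable K L]
      [AlgebraicGeometry.Etale (Transfer.str K L)] [PreservesFiniteLimits (EtCoh.pull (Transfer.str K L))]
      (y : EtCoh.H (Spec (CommRingCat.of L)) ((EtCoh.pull (Transfer.str K L)).obj F) n), ∃ m, M m ∧ m • y = 0) :
    ∃ m, M m ∧ m • x = 0 := by
  classical
  obtain ⟨J, _, L, _, _, _, _, _, ρ, e, hsum⟩ := exists_decomp W
  have hpt : ∀ p, ∃ m, M m ∧ m • (Ext.mk₀ ((H18Et.FreeSheaf.free _).map (ρ p))).comp x (zero_add n) = 0 := fun p => by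
    haveI := H18Et.pull_preservesFiniteLimits (Transfer.str K (L p))
    obtain ⟨m, hm, hmy⟩ := h (L p) (H18Et.FreeSheaf.phi (Transfer.str K (L p)) F n
      ((Ext.mk₀ ((H18Et.FreeSheaf.free _).map (ρ p))).comp x (zero_add n)))
    exact ⟨m, hm, (H18Et.FreeSheaf.phi_bijective _ F n).1 ((map_nsmul _ m _).trans (hmy.trans (map_zero _).symm))⟩
  choose m hm hmx using hpt
  refine ⟨∏ p, m p, Finset.prod_induction m M hmul h1 fun p _ => hm p, ?_⟩
  exact nsmul_eq_zero_of_decomp (fun p => (H18Et.FreeSheaf.free _).map (ρ p)) e hsum x m hmx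

/-- Positive degree classes on compact étale objects over a field are torsion. -/
theorem exists_nsmul_ext_field {W : (Spec (CommRingCat.of K)).Etale} [CompactSpace W.left]
    {F : EtCoh.Ab (Spec (CommRingCat.of K))} {n : ℕ} (hn : 0 < n)
    (x : Ext ((H18Et.FreeSheaf.free _).obj W) F n) : ∃ m : ℕ, 0 < m ∧ m • x = 0 :=
  ext_of_points x (0 < ·) Nat.one_pos (fun _ _ ha hb => Nat.mul_pos ha hb) fun L => fun y =>
    isOfFinAddOrder_iff_nsmul_eq_zero.1 (Groth.Agent.H9GalCoh.Killing.isOfFinAddOrder _ n hn y)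

end Groth.Agent.H05EGA4.EtTors
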